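import Mathlib.CategoryTheory.Triangulated.Subcategory
import Mathlib.CategoryTheory.Triangulated.Yoneda
import Mathlib.CategoryTheory.Localization.CalculusOfFractions
import Mathlib.CategoryTheory.Linear.LinearFunctor
import Mathlib.Algebra.Module.LocalizedModule.Basic
import Mathlib.RingTheory.Ideal.Maximal

/-! Linear structures and Verdier quotients. -/

set_option autoImplicit false
set_option linter.unusedSectionVars false
set_option linter.style.haveILetI false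

universe w v u v' u'

open CategoryTheory CategoryTheory.Limits CategoryTheory.Pretriangulated
open scoped ZeroObject

namespace Groth.Agent.Verdier43

variable {A : Type w} [CommRing A] {T : Type u} [Category.{v} T] [Preadditive T] [Linear A T] [HasZeroObject T]
  [HasShift T ℤ] [∀ n : ℤ, (shiftFunctor T n).Additive] [∀ n : ℤ, (shiftFunctor T n).Linear A]
  [Pretriangulated T]

/-- A retract of a cone of zero. -/
theorem mem_of_trW_zero {U : ObjectProperty T} [U.IsStableUnderRetracts] [U.IsStableUnderShift ℤ]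
    {X X' : T} (h : U.trW (0 : X' ⟶ X)) : U X := by
  obtain ⟨Z, g, k, hT, hZ⟩ := h
  obtain ⟨r, hr⟩ : ∃ r : Z ⟶ X, (𝟙 X) = g ≫ r :=
    Triangle.yoneda_exact₂ _ hT (𝟙 X) (by exact zero_comp)
  exact U.prop_of_retract (⟨g, r, hr.symm⟩ : Retract X Z) hZ

theorem mem_of_isZero_obj [IsTriangulated T] (U : ObjectProperty T) [U.IsTriangulated]
    [U.IsClosedUnderIsomorphisms] [U.IsStableUnderRetracts]
    {E : Type u'} [Category.{v'} E] [Preadditive E] (Q : T ⥤ E) [Q.Additive] [Q.IsLocalization U.trW] {X : T}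
    (h : IsZero (Q.obj X)) : U X := by
  have h₀ : Q.map (𝟙 X) = Q.map (0 : X ⟶ X) := h.eq_of_src _ _
  obtain ⟨X', s, hs, e⟩ := (MorphismProperty.map_eq_iff_precomp Q U.trW _ _).1 h₀
  rw [Category.comp_id, comp_zero] at e
  subst e
  exact mem_of_trW_zero hs

/-- The objects killed by an element of `S`. -/
def killed (T : Type u) [Category.{v} T] [Preadditive T] [Linear A T] (S : Submonoid A) : ObjectProperty T :=
  fun Z => ∃ a ∈ S, a • 𝟙 Z = 0

variable {S : Submonoid A}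

theorem smul_eq_comp_left {X Y : T} (a : A) (f : X ⟶ Y) : a • f = (a • 𝟙 X) ≫ f := by
  rw [Linear.smul_comp, Category.id_comp]

theorem smul_eq_comp_right {X Y : T} (a : A) (f : X ⟶ Y) : a • f = f ≫ (a • 𝟙 Y) := by
  rw [Linear.comp_smul, Category.comp_id]

theorem smul_hom_eq_zero_left {X Y : T} {a : A} (h : a • 𝟙 X = 0) (f : X ⟶ Y) : a • f = 0 := by
  rw [smul_eq_comp_left, h, zero_comp]

theorem smul_hom_eq_zero_right {X Y : T} {a : A} (h : a • 𝟙 Y = 0) (f : X ⟶ Y) : a • f = 0 := by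
  rw [smul_eq_comp_right, h, comp_zero]

theorem map_smul_id_shift {X : T} (a : A) (n : ℤ) :
    (shiftFunctor T n).map (a • 𝟙 X) = a • 𝟙 ((shiftFunctor T n).obj X) := by
  rw [Functor.map_smul, CategoryTheory.Functor.map_id]

theorem killed_of_retract {X Z : T} (e : Retract X Z) (h : killed T S Z) : killed T S X := by
  obtain ⟨a, ha, hz⟩ := h
  refine ⟨a, ha, ?_⟩
  rw [← e.retract, ← Linear.smul_comp, smul_hom_eq_zero_right hz e.i, zero_comp]

instance killed_closedIso : (killed T S).IsClosedUnderIsomorphisms :=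
  ⟨fun e h => killed_of_retract e.symm.retract h⟩

instance killed_retracts : (killed T S).IsStableUnderRetracts :=
  ⟨fun e h => killed_of_retract e h⟩

instance killed_containsZero : (killed T S).ContainsZero :=
  ⟨⟨0, isZero_zero T, 1, S.one_mem, (isZero_zero T).eq_of_src _ _⟩⟩

instance killed_shift : (killed T S).IsStableUnderShift ℤ where
  isStableUnderShiftBy n := ⟨fun X h => by
    obtain ⟨a, ha, hz⟩ := h
    refine ⟨a, ha, ?_⟩
    rw [← map_smul_id_shift, hz, Functor.map_zero]⟩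

theorem killed_ext₂ (T' : Triangle T) (hT : T' ∈ distTriang T) (h₁ : killed T S T'.obj₁)
    (h₃ : killed T S T'.obj₃) : killed T S T'.obj₂ := by
  obtain ⟨a, ha, za⟩ := h₁
  obtain ⟨b, hb, zb⟩ := h₃
  refine ⟨a * b, S.mul_mem ha hb, ?_⟩
  have hb' : (b • 𝟙 T'.obj₂) ≫ T'.mor₂ = 0 := by
    rw [← smul_eq_comp_left, smul_hom_eq_zero_right zb]
  obtain ⟨φ, hφ⟩ := Triangle.coyoneda_exact₂ T' hT _ hb'
  rw [mul_smul, hφ, ← Linear.smul_comp, smul_hom_eq_zero_right za, zero_comp]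

instance killed_triangulated : (killed T S).IsTriangulated where
  toIsTriangulatedClosed₂ := ObjectProperty.IsTriangulatedClosed₂.mk' killed_ext₂

theorem killed_cone {X : T} {f : A} (hf : f ∈ S) {Z : T} (g : X ⟶ Z) (h : Z ⟶ X⟦(1 : ℤ)⟧)
    (hT : Triangle.mk (f • 𝟙 X) g h ∈ distTriang T) : killed T S Z := by
  refine ⟨f * f, S.mul_mem hf hf, ?_⟩
  have hg : g ≫ (f • 𝟙 Z) = 0 := by
    rw [← smul_eq_comp_right, smul_eq_comp_left]
    exact comp_distTriang_mor_zero₁₂ _ hT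
  have hh : (f • 𝟙 Z) ≫ h = 0 := by
    rw [← smul_eq_comp_left, smul_eq_comp_right, ← map_smul_id_shift]
    exact comp_distTriang_mor_zero₃₁ _ hT
  obtain ⟨φ, hφ⟩ : ∃ φ, f • 𝟙 Z = h ≫ φ := Triangle.yoneda_exact₃ _ hT _ hg
  calc (f * f) • 𝟙 Z = (f • 𝟙 Z) ≫ (f • 𝟙 Z) := by rw [← smul_eq_comp_left, mul_smul]
    _ = ((f • 𝟙 Z) ≫ h) ≫ φ := by rw [Category.assoc, ← hφ]
    _ = 0 := by rw [hh, zero_comp]

section Quotient

variable [IsTriangulated T] (U : ObjectProperty T) [U.IsTriangulated] [U.IsClosedUnderIsomorphisms]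
  [U.IsStableUnderRetracts]
  (hU : ∀ (X : T) (f : A), f ∈ S → ∀ (Z : T) (g : X ⟶ Z) (h : Z ⟶ X⟦(1 : ℤ)⟧),
      Triangle.mk (f • 𝟙 X) g h ∈ distTriang T → U Z)
  (hmin : U ≤ killed T S)

include hU in
theorem trW_smul_id {a : A} (ha : a ∈ S) (X : T) : U.trW (a • 𝟙 X) := by
  obtain ⟨Z, g, h, hT⟩ := distinguished_cocone_triangle (a • 𝟙 X)
  exact ⟨Z, g, h, hT, hU X a ha Z g h hT⟩

include hmin in
theorem exists_retraction {Y Y' : T} (s : Y ⟶ Y') (hs : U.trW s) :
    ∃ a ∈ S, (∃ t : Y' ⟶ Y, t ≫ s = a • 𝟙 Y') ∧ ∃ t : Y' ⟶ Y, s ≫ t = a • 𝟙 Y := by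
  obtain ⟨Z, g, h, hT, hZ⟩ := hs
  obtain ⟨a, ha, hz⟩ := hmin Z hZ
  refine ⟨a, ha, ?_, ?_⟩
  · have h₀ : (a • 𝟙 Y') ≫ g = 0 := by rw [← smul_eq_comp_left, smul_hom_eq_zero_right hz]
    obtain ⟨t, ht⟩ : ∃ t, a • 𝟙 Y' = t ≫ s := Triangle.coyoneda_exact₂ _ hT _ h₀
    exact ⟨t, ht.symm⟩
  · have hz' : a • 𝟙 (Z⟦(-1 : ℤ)⟧) = 0 := by rw [← map_smul_id_shift, hz, Functor.map_zero]
    obtain ⟨t, ht⟩ : ∃ t : Y' ⟶ Y, a • 𝟙 Y = s ≫ t :=
      Triangle.yoneda_exact₂ _ (inv_rot_of_distTriang _ hT) (a • 𝟙 Y) (by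
        exact (smul_eq_comp_right a _).symm.trans (smul_hom_eq_zero_left hz' _))
    exact ⟨t, ht.symm⟩

variable {E : Type u'} [Category.{v'} E] [Preadditive E] [Linear A E] (Q : T ⥤ E) [Q.Additive] [Q.Linear A]
  [Q.IsLocalization U.trW]

include hU hmin in
theorem isLocalizedModule_map (X Y : T) :
    IsLocalizedModule S (Q.mapLinearMap A : (X ⟶ Y) →ₗ[A] (Q.obj X ⟶ Q.obj Y)) := by
  refine ⟨fun x => ?_, fun φ => ?_, fun {f g} e => ?_⟩
  · haveI : IsIso (Q.map ((x : A) • 𝟙 Y)) := Localization.inverts Q U.trW _ (trW_smul_id U hU x.2 Y)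
    rw [Module.End.isUnit_iff]
    have hx : ∀ φ : Q.obj X ⟶ Q.obj Y,
        algebraMap A (Module.End A (Q.obj X ⟶ Q.obj Y)) (x : A) φ = φ ≫ Q.map ((x : A) • 𝟙 Y) := fun φ => by
      rw [Functor.map_smul, CategoryTheory.Functor.map_id, Linear.comp_smul, Category.comp_id]
      rfl
    constructor
    · intro φ ψ h
      rw [hx, hx] at h
      exact (cancel_mono _).1 h
    · exact fun ψ => ⟨ψ ≫ inv (Q.map ((x : A) • 𝟙 Y)), by rw [hx, Category.assoc, IsIso.inv_hom_id, Category.comp_id]⟩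
  · obtain ⟨φ', hφ⟩ := Localization.exists_leftFraction Q U.trW φ
    obtain ⟨a, ha, ⟨t, ht⟩, -⟩ := exists_retraction U hmin φ'.s φ'.hs
    refine ⟨(φ'.f ≫ t, ⟨a, ha⟩), ?_⟩
    haveI : IsIso (Q.map φ'.s) := Localization.inverts Q U.trW _ φ'.hs
    show a • φ = Q.map (φ'.f ≫ t)
    rw [hφ, ← cancel_mono (Q.map φ'.s), Linear.smul_comp, MorphismProperty.LeftFraction.map_comp_map_s,
      ← Functor.map_comp, Category.assoc, ht, ← smul_eq_comp_right, Functor.map_smul]
  · change Q.map f = Q.map g at e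
    obtain ⟨Y', s, hs, e'⟩ := (MorphismProperty.map_eq_iff_postcomp Q U.trW f g).1 e
    obtain ⟨a, ha, -, t, ht⟩ := exists_retraction U hmin s hs
    refine ⟨⟨a, ha⟩, ?_⟩
    show a • f = a • g
    rw [smul_eq_comp_right, ← ht, reassoc_of% e', ht, ← smul_eq_comp_right]

theorem mem_iff_locally_zero (X : T) :
    U X ↔ ∀ m : Ideal A, m.IsMaximal → ∃ s : A, s ∉ m ∧ s • 𝟙 (Q.obj X) = 0 := by
  constructor
  · intro hX m hm
    refine ⟨1, fun h => hm.ne_top ((Ideal.eq_top_iff_one m).2 h), ?_⟩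
    have h : U.trW (0 : X ⟶ 0) := by
      obtain ⟨Z, g, h, hT⟩ := distinguished_cocone_triangle (0 : X ⟶ 0)
      haveI : IsIso h := (Triangle.isZero₂_iff_isIso₃ _ hT).1 (isZero_zero T)
      exact ⟨Z, g, h, hT, U.prop_of_iso (asIso h).symm (U.le_shift 1 X hX)⟩
    haveI := Localization.inverts Q U.trW _ h
    rw [one_smul]
    exact ((Q.map_isZero (isZero_zero T)).of_iso (asIso (Q.map (0 : X ⟶ 0)))).eq_of_src _ _
  · intro h
    let J : Ideal A :=
      { carrier := {a | a • 𝟙 (Q.obj X) = 0}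
        zero_mem' := zero_smul A _
        add_mem' := fun {a b} ha hb => by
          show (a + b) • 𝟙 (Q.obj X) = 0
          rw [add_smul, ha, hb, add_zero]
        smul_mem' := fun c a ha => by
          show (c • a) • 𝟙 (Q.obj X) = 0
          rw [smul_assoc, ha, smul_zero] }
    by_cases hJ : J = ⊤
    · have h₁ : (1 : A) • 𝟙 (Q.obj X) = 0 := (hJ ▸ Submodule.mem_top : (1 : A) ∈ J)
      rw [one_smul] at h₁
      exact mem_of_isZero_obj U Q ((IsZero.iff_id_eq_zero _).2 h₁)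
    · obtain ⟨m, hm, hJm⟩ := Ideal.exists_le_maximal J hJ
      obtain ⟨s, hs, hs'⟩ := h m hm
      exact absurd (hJm hs') hs

end Quotient

end Groth.Agent.Verdier43
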