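import Mathlib.CategoryTheory.Triangulated.Yoneda
import Mathlib.CategoryTheory.Adjunction.FullyFaithful
import Mathlib.CategoryTheory.Shift.CommShift

/-! Full faithfulness from a spanning set. -/

set_option autoImplicit false
set_option linter.unusedSectionVars false
set_option linter.style.haveILetI false

universe v u v' u'

open CategoryTheory CategoryTheory.Limits CategoryTheory.Pretriangulated

namespace Groth.Agent.Verdier43

variable {D : Type u} [Category.{v} D] [Preadditive D] [HasZeroObject D] [HasShift D ℤ]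
  [∀ n : ℤ, (shiftFunctor D n).Additive] [Pretriangulated D]

theorem isIso_of_postcomp (S : Set D)
    (h2 : ∀ K : D, (∀ E ∈ S, ∀ (i : ℤ) (f : E ⟶ (shiftFunctor D i).obj K), f = 0) → IsZero K)
    {Y Z : D} (η : Y ⟶ Z)
    (hb : ∀ E ∈ S, ∀ j : ℤ, Function.Bijective (fun f : (shiftFunctor D j).obj E ⟶ Y => f ≫ η)) : IsIso η := by
  obtain ⟨C, g, δ, hT⟩ := distinguished_cocone_triangle η
  refine (Triangle.isZero₃_iff_isIso₁ _ hT).1 (h2 C fun E hE i f => ?_)
  suffices h : ∀ (j : ℤ) (φ : (shiftFunctor D j).obj E ⟶ C), φ = 0 by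
    let u := (shiftFunctorCompIsoId D (-i) i (by omega)).app E
    obtain ⟨φ, hφ⟩ := (shiftFunctor D i).map_surjective (u.hom ≫ f)
    rw [h (-i) φ, Functor.map_zero] at hφ
    exact (cancel_epi u.hom).1 (hφ.symm.trans comp_zero.symm)
  intro j φ
  have h₁ : φ ≫ δ = 0 := by
    let e' := (shiftFunctorAdd' D (j - 1) 1 j (by omega)).app E
    obtain ⟨ψ, hψ⟩ := (shiftFunctor D (1 : ℤ)).map_surjective (e'.inv ≫ φ ≫ δ)
    have hz : δ ≫ η⟦(1 : ℤ)⟧' = 0 := comp_distTriang_mor_zero₃₁ _ hT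
    have hψ0 : ψ = 0 := (hb E hE (j - 1)).1 (by
      show ψ ≫ η = 0 ≫ η
      refine (shiftFunctor D (1 : ℤ)).map_injective ?_
      rw [Functor.map_comp, hψ, Category.assoc, Category.assoc, hz, zero_comp, Functor.map_zero, comp_zero, comp_zero])
    rw [hψ0, Functor.map_zero] at hψ
    exact (cancel_epi e'.inv).1 (hψ.symm.trans comp_zero.symm)
  obtain ⟨ψ, hψ⟩ : ∃ ψ, φ = ψ ≫ g := Triangle.coyoneda_exact₃ _ hT φ h₁
  obtain ⟨ψ', hψ'⟩ := (hb E hE j).2 ψ
  rw [hψ, ← hψ', Category.assoc, show η ≫ g = 0 from comp_distTriang_mor_zero₁₂ _ hT, comp_zero]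

theorem isIso_of_precomp (S : Set D)
    (h3 : ∀ K : D, (∀ E ∈ S, ∀ (i : ℤ) (f : K ⟶ (shiftFunctor D i).obj E), f = 0) → IsZero K)
    {Y Z : D} (η : Y ⟶ Z)
    (hb : ∀ E ∈ S, ∀ j : ℤ, Function.Bijective (fun f : Z ⟶ (shiftFunctor D j).obj E => η ≫ f)) : IsIso η := by
  obtain ⟨C, g, δ, hT⟩ := distinguished_cocone_triangle η
  refine (Triangle.isZero₃_iff_isIso₁ _ hT).1 (h3 C fun E hE j φ => ?_)
  have h₁ : g ≫ φ = 0 := (hb E hE j).1 (by
    show η ≫ g ≫ φ = η ≫ 0
    rw [← Category.assoc, show η ≫ g = 0 from comp_distTriang_mor_zero₁₂ _ hT, zero_comp, comp_zero])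
  obtain ⟨ψ, hψ⟩ : ∃ ψ : Y⟦(1 : ℤ)⟧ ⟶ (shiftFunctor D j).obj E, φ = δ ≫ ψ := Triangle.yoneda_exact₃ _ hT φ h₁
  let e := (shiftFunctorAdd' D (j - 1) 1 j (by omega)).app E
  obtain ⟨ψ', hψ'⟩ := (shiftFunctor D (1 : ℤ)).map_surjective (ψ ≫ e.hom)
  obtain ⟨ψ'', hψ''⟩ := (hb E hE (j - 1)).2 ψ'
  change η ≫ ψ'' = ψ' at hψ''
  rw [← hψ'', Functor.map_comp] at hψ'
  rw [← cancel_mono e.hom, zero_comp, hψ, Category.assoc, ← hψ', ← Category.assoc,
    show δ ≫ η⟦(1 : ℤ)⟧' = 0 from comp_distTriang_mor_zero₃₁ _ hT, zero_comp]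

variable {D' : Type u'} [Category.{v'} D'] [HasShift D' ℤ] (F : D ⥤ D') [F.CommShift ℤ]

theorem map_bijective_shift {X Y : D} (h : Function.Bijective (fun f : X ⟶ Y => F.map f)) (n : ℤ) :
    Function.Bijective (fun f : (shiftFunctor D n).obj X ⟶ (shiftFunctor D n).obj Y => F.map f) := by
  have e : ∀ f : X ⟶ Y, F.map ((shiftFunctor D n).map f) =
      (F.commShiftIso n).hom.app X ≫ (shiftFunctor D' n).map (F.map f) ≫ (F.commShiftIso n).inv.app Y := fun f => by
    rw [← Category.assoc, ← Iso.app_inv, Iso.eq_comp_inv]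
    exact (F.commShiftIso n).hom.naturality f
  constructor
  · intro f₁ f₂ hf
    obtain ⟨g₁, rfl⟩ := (shiftFunctor D n).map_surjective f₁
    obtain ⟨g₂, rfl⟩ := (shiftFunctor D n).map_surjective f₂
    change F.map _ = F.map _ at hf
    rw [e, e, cancel_epi, cancel_mono] at hf
    exact congrArg _ (h.1 ((shiftFunctor D' n).map_injective hf))
  · intro φ
    obtain ⟨ψ, hψ⟩ := (shiftFunctor D' n).map_surjective
      ((F.commShiftIso n).inv.app X ≫ φ ≫ (F.commShiftIso n).hom.app Y)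
    obtain ⟨g, hg⟩ := h.2 ψ
    refine ⟨(shiftFunctor D n).map g, ?_⟩
    show F.map _ = φ
    change F.map g = ψ at hg
    rw [e, hg, hψ]
    simp

theorem map_bijective_of_iso {X Y Y' : D} (i : Y ≅ Y') (h : Function.Bijective (fun f : X ⟶ Y => F.map f)) :
    Function.Bijective (fun f : X ⟶ Y' => F.map f) := by
  constructor
  · intro f₁ f₂ hf
    change F.map f₁ = F.map f₂ at hf
    rw [← cancel_mono i.inv]
    refine h.1 ?_
    show F.map _ = F.map _
    rw [F.map_comp, F.map_comp, hf]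
  · intro φ
    obtain ⟨g, hg⟩ := h.2 (φ ≫ F.map i.inv)
    change F.map g = _ at hg
    refine ⟨g ≫ i.hom, ?_⟩
    show F.map _ = φ
    rw [F.map_comp, hg, Category.assoc, ← F.map_comp, i.inv_hom_id, F.map_id, Category.comp_id]

theorem full_faithful_of_spanning [F.IsLeftAdjoint] [F.IsRightAdjoint] (S : Set D)
    (h2 : ∀ K : D, (∀ E ∈ S, ∀ (i : ℤ) (f : E ⟶ (shiftFunctor D i).obj K), f = 0) → IsZero K)
    (h3 : ∀ K : D, (∀ E ∈ S, ∀ (i : ℤ) (f : K ⟶ (shiftFunctor D i).obj E), f = 0) → IsZero K)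
    (h4 : ∀ E ∈ S, ∀ E' ∈ S, ∀ i : ℤ,
      Function.Bijective (fun f : E ⟶ (shiftFunctor D i).obj E' => F.map f)) :
    F.Full ∧ F.Faithful := by
  let adjR := Adjunction.ofIsLeftAdjoint F
  let adjL := Adjunction.ofIsRightAdjoint F
  have h4' : ∀ E ∈ S, ∀ E' ∈ S, ∀ j i : ℤ,
      Function.Bijective (fun f : (shiftFunctor D j).obj E ⟶ (shiftFunctor D i).obj E' => F.map f) :=
    fun E hE E' hE' j i => map_bijective_of_iso F ((shiftFunctorAdd' D (i - j) j i (by omega)).symm.app E')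
      (map_bijective_shift F (h4 E hE E' hE' (i - j)) j)
  have hsrc : ∀ E ∈ S, ∀ (j : ℤ) (Y : D), Function.Bijective (fun f : (shiftFunctor D j).obj E ⟶ Y => F.map f) := by
    intro E hE j Y
    let W := (shiftFunctor D j).obj E
    haveI : IsIso (adjL.counit.app W) := isIso_of_precomp S h3 _ fun E' hE' i => by
      have e : (fun f : W ⟶ (shiftFunctor D i).obj E' => adjL.counit.app W ≫ f) =
          (adjL.homEquiv (F.obj W) ((shiftFunctor D i).obj E')).symm ∘
            (fun f : W ⟶ (shiftFunctor D i).obj E' => F.map f) := funext fun f => by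
        show adjL.counit.app W ≫ f = (adjL.homEquiv _ _).symm (F.map f)
        rw [Adjunction.homEquiv_counit]
        exact (adjL.counit.naturality f).symm
      show Function.Bijective (fun f : W ⟶ (shiftFunctor D i).obj E' => adjL.counit.app W ≫ f)
      rw [e]
      exact ((adjL.homEquiv _ _).symm.bijective).comp (h4' E hE E' hE' j i)
    have h' : (fun f : W ⟶ Y => F.map f) = (adjL.homEquiv (F.obj W) Y) ∘ (fun f : W ⟶ Y => adjL.counit.app W ≫ f) := by
      funext f
      refine ((adjL.homEquiv (F.obj W) Y).apply_symm_apply (F.map f)).symm.trans (congrArg _ ?_)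
      rw [Adjunction.homEquiv_counit]
      exact adjL.counit.naturality f
    rw [h']
    exact (adjL.homEquiv _ _).bijective.comp
      ⟨fun a b h => (cancel_epi _).1 h, fun g => ⟨inv (adjL.counit.app W) ≫ g, IsIso.hom_inv_id_assoc _ _⟩⟩
  haveI : IsIso adjR.unit := by
    haveI : ∀ Y, IsIso (adjR.unit.app Y) := fun Y => isIso_of_postcomp S h2 _ fun E hE j => by
      have e : (fun f : (shiftFunctor D j).obj E ⟶ Y => f ≫ adjR.unit.app Y) =
          (adjR.homEquiv ((shiftFunctor D j).obj E) (F.obj Y)) ∘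
            (fun f : (shiftFunctor D j).obj E ⟶ Y => F.map f) := funext fun f => by
        show f ≫ adjR.unit.app Y = adjR.homEquiv _ _ (F.map f)
        rw [Adjunction.homEquiv_unit]
        exact adjR.unit.naturality f
      show Function.Bijective (fun f : (shiftFunctor D j).obj E ⟶ Y => f ≫ adjR.unit.app Y)
      rw [e]
      exact (adjR.homEquiv _ _).bijective.comp (hsrc E hE j Y)
    exact NatIso.isIso_of_isIso_app _
  exact ⟨adjR.fullyFaithfulLOfIsIsoUnit.full, adjR.fullyFaithfulLOfIsIsoUnit.faithful⟩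

end Groth.Agent.Verdier43
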